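import Cfsg.Agent.Lib.Char.Homogeneous.Parity
import Cfsg.Agent.Lib.Char.Homogeneous.Quads

/-!
Quadruply transitive groups with an odd four-point stabiliser: basic tools.
-/

set_option autoImplicit false
set_option linter.unusedSectionVars false

namespace CfsgLib.Char.OddFour

open Equiv CfsgLib.Char.Homogeneous

variable {α : Type*} [Fintype α] [DecidableEq α] {G T : Subgroup (Perm α)}

/-- The centraliser of `x` inside `T`. -/
def Cen (T : Subgroup (Perm α)) (x : Perm α) : Subgroup (Perm α) where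
  carrier := {t | t ∈ T ∧ Commute t x}
  mul_mem' := fun {a b} ha hb => ⟨mul_mem ha.1 hb.1, ha.2.mul_left hb.2⟩
  one_mem' := ⟨one_mem _, Commute.one_left x⟩
  inv_mem' := fun {a} ha => ⟨inv_mem ha.1, ha.2.inv_left⟩

theorem mem_cen {x t : Perm α} : t ∈ Cen T x ↔ t ∈ T ∧ Commute t x := Iff.rfl

theorem odd_cen {x : Perm α} (hT : Odd (Nat.card T)) : Odd (Nat.card (Cen T x)) :=
  hT.of_dvd_nat (Subgroup.card_dvd_of_le fun _ h => h.1)

/-- An element of odd order with `t (t z) = z` fixes `z`. -/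
theorem fix_of_sq (hT : Odd (Nat.card T)) {t : Perm α} (ht : t ∈ T) {z : α} (h : t (t z) = z) : t z = z := by
  obtain ⟨l, hl⟩ := hT
  have h1 : ∀ m : ℕ, ((t * t) ^ m) z = z := fun m => by
    induction m with
    | zero => rfl
    | succ m ih => rw [pow_succ, Perm.mul_apply, Perm.mul_apply, h, ih]
  have h2 := congrArg Subtype.val (pow_card_eq_one' (G := T) (x := ⟨t, ht⟩))
  simp only [SubmonoidClass.coe_pow, OneMemClass.coe_one] at h2
  have h3 : (t * t) ^ (l + 1) = t := by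
    rw [← sq, ← pow_mul, show 2 * (l + 1) = Nat.card T + 1 by omega, pow_succ, h2, one_mul]
  have h4 := h1 (l + 1)
  rwa [h3] at h4

theorem apply_comm {t x : Perm α} (h : Commute t x) (z : α) : t (x z) = x (t z) := by
  rw [← Perm.mul_apply, h.eq, Perm.mul_apply]

/-- A two-element set is fixed pointwise. -/
theorem fix_of_pair (hT : Odd (Nat.card T)) {t : Perm α} (ht : t ∈ T) {v w : α} (hv : t v = v ∨ t v = w)
    (hw : t w = v ∨ t w = w) : t v = v := by
  refine fix_of_sq hT ht ?_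
  rcases hv with h | h
  · rw [h, h]
  · rw [h]
    rcases hw with h' | h'
    · exact h'
    · rw [h']
      exact t.injective (h'.trans h.symm) ▸ rfl

theorem split (hT : Odd (Nat.card T)) {a : Perm α} (ha : a * a = 1) (hn : ∀ t ∈ T, a * t * a⁻¹ ∈ T)
    {t : Perm α} (ht : t ∈ T) :
    ∃ c ∈ T, ∃ i ∈ T, Commute c a ∧ a * i * a⁻¹ = i⁻¹ ∧ t = c * i := by
  have hai : a⁻¹ = a := inv_eq_of_mul_eq_one_right ha
  have haa : ∀ r, a * (a * r * a⁻¹) * a⁻¹ = r := fun r => by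
    calc a * (a * r * a⁻¹) * a⁻¹ = (a * a) * r * (a⁻¹ * a⁻¹) := by group
      _ = r := by rw [hai, ha, one_mul, mul_one]
  set w := (a * t * a⁻¹)⁻¹ * t with hw
  have hwT : w ∈ T := mul_mem (inv_mem (hn t ht)) ht
  have hwi : a * w * a⁻¹ = w⁻¹ := by
    calc a * w * a⁻¹ = (a * (a * t * a⁻¹) * a⁻¹)⁻¹ * (a * t * a⁻¹) := by simp [hw, mul_assoc]
      _ = w⁻¹ := by rw [haa]; simp only [hw]; group
  obtain ⟨m, hm⟩ := exists_sqrt hT hwT
  have hi : a * w ^ m * a⁻¹ = (w ^ m)⁻¹ := by rw [← conj_pow, hwi, inv_pow]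
  refine ⟨t * (w ^ m)⁻¹, mul_mem ht (inv_mem (pow_mem hwT m)), w ^ m, pow_mem hwT m, ?_, hi, by group⟩
  have key : a * (t * (w ^ m)⁻¹) * a⁻¹ = t * (w ^ m)⁻¹ := by
    calc a * (t * (w ^ m)⁻¹) * a⁻¹ = (a * t * a⁻¹) * (a * w ^ m * a⁻¹)⁻¹ := by group
      _ = t * w⁻¹ * w ^ m := by rw [hi, inv_inv]; simp only [hw]; group
      _ = t * (w ^ m * w ^ m)⁻¹ * w ^ m := by rw [hm]
      _ = _ := by group
  show _ * a = a * _
  exact (mul_inv_eq_iff_eq_mul.1 key).symm

/-- An odd group normalised by two commuting involutions. -/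
theorem decomp (hT : Odd (Nat.card T)) {a b : Perm α} (ha : a * a = 1) (hb : b * b = 1) (hab : Commute a b)
    (hna : ∀ t ∈ T, a * t * a⁻¹ ∈ T) (hnb : ∀ t ∈ T, b * t * b⁻¹ ∈ T) {t : Perm α} (ht : t ∈ T) :
    ∃ d ∈ T, ∃ c ∈ T, ∃ j ∈ T, Commute d a ∧ Commute c b ∧ Commute j (a * b) ∧ t = d * (j * c * j) := by
  obtain ⟨d, hd, i, hi, hda, hia, rfl⟩ := split hT ha hna ht
  set i' := b * i * b⁻¹ with hi'
  have hi'T : i' ∈ T := hnb i hi
  have hbi : b⁻¹ = b := inv_eq_of_mul_eq_one_right hb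
  have hbb : b * i' * b⁻¹ = i := by
    calc b * i' * b⁻¹ = (b * b) * i * (b⁻¹ * b⁻¹) := by simp only [hi']; group
      _ = i := by rw [hbi, hb, one_mul, mul_one]
  have ha' : a * i' * a⁻¹ = i'⁻¹ := by
    calc a * i' * a⁻¹ = (a * b) * i * (a * b)⁻¹ := by simp only [hi']; group
      _ = (b * a) * i * (b * a)⁻¹ := by rw [hab.eq]
      _ = b * (a * i * a⁻¹) * b⁻¹ := by group
      _ = i'⁻¹ := by rw [hia]; simp only [hi']; group
  obtain ⟨m, hm⟩ := exists_sqrt hT (mul_mem hi hi'T)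
  set r := (i * i') ^ m with hr
  have hrT : r ∈ T := pow_mem (mul_mem hi hi'T) m
  have har : a * r * a⁻¹ = i⁻¹ * r⁻¹ * i := by
    calc a * r * a⁻¹ = ((a * i * a⁻¹) * (a * i' * a⁻¹)) ^ m := by simp only [hr]; rw [← conj_pow]; group
      _ = (i⁻¹ * (i * i')⁻¹ * i⁻¹⁻¹) ^ m := by rw [hia, ha']; group
      _ = _ := by rw [conj_pow, inv_pow, inv_inv]
  have hbr : b * r * b⁻¹ = i⁻¹ * r * i := by
    calc b * r * b⁻¹ = ((b * i * b⁻¹) * (b * i' * b⁻¹)) ^ m := by simp only [hr]; rw [← conj_pow]; group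
      _ = (i⁻¹ * (i * i') * i⁻¹⁻¹) ^ m := by rw [hbb, ← hi']; group
      _ = _ := by rw [conj_pow, inv_inv]
  set s := r * i'⁻¹ with hs
  have hsT : s ∈ T := mul_mem hrT (inv_mem hi'T)
  have hsa : a * s * a⁻¹ = s⁻¹ := by
    calc a * s * a⁻¹ = (a * r * a⁻¹) * (a * i' * a⁻¹)⁻¹ := by simp only [hs]; group
      _ = i⁻¹ * r⁻¹ * (i * i') := by rw [har, ha']; group
      _ = i⁻¹ * r := by rw [← hm]; group
      _ = i⁻¹ * (r * r) * r⁻¹ := by group
      _ = s⁻¹ := by rw [hm]; simp only [hs]; group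
  have hsb : b * s * b⁻¹ = s⁻¹ := by
    calc b * s * b⁻¹ = (b * r * b⁻¹) * (b * i' * b⁻¹)⁻¹ := by simp only [hs]; group
      _ = i⁻¹ * r := by rw [hbr, hbb]; group
      _ = i⁻¹ * (r * r) * r⁻¹ := by group
      _ = s⁻¹ := by rw [hm]; simp only [hs]; group
  obtain ⟨k, hk⟩ := exists_sqrt hT hsT
  have hjT : s ^ k ∈ T := pow_mem hsT k
  have hja : a * s ^ k * a⁻¹ = (s ^ k)⁻¹ := by rw [← conj_pow, hsa, inv_pow]
  have hjb : b * s ^ k * b⁻¹ = (s ^ k)⁻¹ := by rw [← conj_pow, hsb, inv_pow]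
  refine ⟨d, hd, (s ^ k)⁻¹ * i * (s ^ k)⁻¹, mul_mem (mul_mem (inv_mem hjT) hi) (inv_mem hjT), s ^ k, hjT,
    hda, ?_, ?_, by group⟩
  · have key : b * ((s ^ k)⁻¹ * i * (s ^ k)⁻¹) * b⁻¹ = (s ^ k)⁻¹ * i * (s ^ k)⁻¹ := by
      have e : s * i' * s = i := by
        calc s * i' * s = (r * r) * i'⁻¹ := by simp only [hs]; group
          _ = i := by rw [hm]; group
      calc b * ((s ^ k)⁻¹ * i * (s ^ k)⁻¹) * b⁻¹
          = (b * s ^ k * b⁻¹)⁻¹ * (b * i * b⁻¹) * (b * s ^ k * b⁻¹)⁻¹ := by group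
        _ = s ^ k * i' * s ^ k := by rw [hjb, ← hi', inv_inv]
        _ = (s ^ k)⁻¹ * ((s ^ k * s ^ k) * i' * (s ^ k * s ^ k)) * (s ^ k)⁻¹ := by group
        _ = _ := by rw [hk, e]
    show _ * b = b * _
    exact (mul_inv_eq_iff_eq_mul.1 key).symm
  · have key : a * b * s ^ k * (a * b)⁻¹ = s ^ k := by
      calc a * b * s ^ k * (a * b)⁻¹ = a * (b * s ^ k * b⁻¹) * a⁻¹ := by group
        _ = (a * s ^ k * a⁻¹)⁻¹ := by rw [hjb]; group
        _ = s ^ k := by rw [hja, inv_inv]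
    show _ * (a * b) = (a * b) * _
    exact (mul_inv_eq_iff_eq_mul.1 key).symm

/-- The orbit of a point. -/
noncomputable def orb (K : Subgroup (Perm α)) (z : α) : Finset α := by
  classical
  exact (Finset.univ.filter (· ∈ K)).image fun t => t z

theorem mem_orb {K : Subgroup (Perm α)} {z w : α} : w ∈ orb K z ↔ ∃ t ∈ K, t z = w := by
  classical
  simp [orb]

theorem self_mem_orb (K : Subgroup (Perm α)) (z : α) : z ∈ orb K z := mem_orb.2 ⟨1, one_mem _, rfl⟩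

theorem orb_eq_of_mem {K : Subgroup (Perm α)} {z w : α} (h : w ∈ orb K z) : orb K w = orb K z := by
  obtain ⟨t, ht, rfl⟩ := mem_orb.1 h
  ext y
  rw [mem_orb, mem_orb]
  exact ⟨fun ⟨s, hs, e⟩ => ⟨s * t, mul_mem hs ht, e⟩,
    fun ⟨s, hs, e⟩ => ⟨s * t⁻¹, mul_mem hs (inv_mem ht), by rw [Perm.mul_apply, iaa, e]⟩⟩

theorem card_orb_mul (K : Subgroup (Perm α)) (z : α) :
    (orb K z).card * Nat.card (K ⊓ MulAction.stabilizer (Perm α) z : Subgroup (Perm α)) = Nat.card K := by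
  classical
  rw [orb, card_image_mul K _ inf_le_left (fun t => t z) fun g hg g' hg' => ?_]
  constructor
  · intro e
    refine ⟨K.mul_mem (K.inv_mem hg) hg', ?_⟩
    show (g⁻¹ * g') z = z
    rw [Perm.mul_apply, Perm.inv_eq_iff_eq]
    exact e.symm
  · intro hs
    have h2 : (g⁻¹ * g') z = z := hs.2
    rw [Perm.mul_apply, Perm.inv_eq_iff_eq] at h2
    exact h2.symm

theorem odd_orb {K : Subgroup (Perm α)} (hK : Odd (Nat.card K)) (z : α) : Odd (orb K z).card :=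
  hK.of_dvd_nat ⟨_, (card_orb_mul K z).symm⟩

theorem maps_pts {x : Perm α} {q : Fin 4 ↪ α} {τ : Perm (Fin 4)} (h : ∀ i, x (q i) = q (τ i)) :
    ∀ p ∈ pts q, x p ∈ pts q := forall_pts fun i => by rw [h]; exact mem_pts q _

theorem notMem_pts {x : Perm α} {q : Fin 4 ↪ α} (hx2 : x * x = 1) (h : ∀ p ∈ pts q, x p ∈ pts q) {z : α}
    (hz : z ∉ pts q) : x z ∉ pts q := fun hc => hz (by
  have := h _ hc
  rwa [← Perm.mul_apply, hx2, Perm.one_apply] at this)

/-- Two points of a quadruple with a moved pair outside. -/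
def pairQuad (q : Fin 4 ↪ α) (i j : Fin 4) (hij : i ≠ j) (z w : α) (hz : z ∉ pts q) (hw : w ∉ pts q)
    (hzw : z ≠ w) : Fin 4 ↪ α :=
  quad (q i) (q j) z w ⟨q.injective.ne hij, fun e => hz (e ▸ mem_pts q i), fun e => hw (e ▸ mem_pts q i),
    fun e => hz (e ▸ mem_pts q j), fun e => hw (e ▸ mem_pts q j), hzw⟩

theorem pts_quad {a b c d : α} (h : a ≠ b ∧ a ≠ c ∧ a ≠ d ∧ b ≠ c ∧ b ≠ d ∧ c ≠ d) :
    pts (quad a b c d h) = {a, b, c, d} := by
  ext y
  simp [pts, quad, Fin.exists_fin_succ, eq_comm]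

section main

variable (hG : Ktr G 4) (hodd : ∀ q : Fin 4 ↪ α, Odd (Nat.card (pfix G (pts q))))
include hG hodd

theorem fxp_le_three {g : Perm α} (hg : g ∈ G) (h2 : g * g = 1) (h1 : g ≠ 1) : (fxp g).card ≤ 3 := by
  by_contra hc
  obtain ⟨D, hD, hD4⟩ := Finset.exists_subset_card_eq (s := fxp g) (n := 4) (by omega)
  let q : Fin 4 ↪ α := ((Finset.equivFinOfCardEq hD4).symm.toEmbedding).trans (Function.Embedding.subtype _)
  exact h1 (eq_one_of_sq (hodd q)
    ⟨hg, forall_pts fun i => mem_fxp.1 (hD ((Finset.equivFinOfCardEq hD4).symm i).2)⟩ h2)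

theorem fxp_swap {g : Perm α} {q : Fin 4 ↪ α} (hg : g ∈ G) (h2 : g * g = 1) (h : Swap22 g q) :
    (fxp g).card = 2 + Fintype.card α % 2 := by
  have h1 := two_le_fxp h
  have h3 := fxp_le_three hG hodd hg h2 (ne_one_of_swap22 h)
  have h5 := card_fxp_mod_two h2
  omega

/-- The relation between the two kinds of centralisers. -/
theorem cent_eq {f : ℕ} (hf : f = 2 + Fintype.card α % 2) (q q' : Fin 4 ↪ α) {x y : Perm α} (hx : x ∈ G)
    (hx2 : x * x = 1) (hxq : Swap22 x q) (hy : y ∈ involSet G f) (hyq : Double y q') :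
    (f * f - f) * Nat.card (Cen (pfix G (pts q)) x) =
      (Fintype.card α - f - 2) * Nat.card (Cen (pfix G (pts q')) y) := by
  classical
  have ha := card_swap22_mul hG q (hodd q)
    (fun g hg hg2 h => (fxp_swap hG hodd hg hg2 h).trans hf.symm) hx hx2 hxq
  have hb := card_double_mul q' (hodd q') hy hyq
  set a := ((involSet G f).filter fun z => Swap22 z q).card
  set b := ((involSet G f).filter fun z => Double z q').card
  have hT := card_pfix_conj hG q q'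
  have ha' : a * Nat.card (Cen (pfix G (pts q)) x) = Nat.card (pfix G (pts q)) := ha
  have hb' : b * Nat.card (Cen (pfix G (pts q')) y) = Nat.card (pfix G (pts q')) := hb
  have e : a * (Fintype.card α - f - 2) = (f * f - f) * b := by
    refine Nat.eq_of_mul_eq_mul_left (Fintype.card_pos_iff.2 ⟨q⟩ : 0 < Fintype.card (Fin 4 ↪ α)) ?_
    rw [← mul_assoc, ← swap22_eq hG f q, mul_left_comm _ (f * f - f), ← double_eq hG f q']
    ring
  have hb0 : 0 < b := Nat.pos_of_mul_pos_right (hb'.symm ▸ Nat.card_pos)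
  refine Nat.eq_of_mul_eq_mul_left hb0 ?_
  calc b * ((f * f - f) * Nat.card (Cen (pfix G (pts q)) x))
      = a * (Fintype.card α - f - 2) * Nat.card (Cen (pfix G (pts q)) x) := by rw [e]; ring
    _ = (Fintype.card α - f - 2) * (a * Nat.card (Cen (pfix G (pts q)) x)) := by ring
    _ = (Fintype.card α - f - 2) * (b * Nat.card (Cen (pfix G (pts q')) y)) := by rw [ha', hb', hT]
    _ = _ := by ring

theorem exists_double_f {f : ℕ} (hf : f = 2 + Fintype.card α % 2) (hn : 6 ≤ Fintype.card α)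
    (q : Fin 4 ↪ α) : ∃ y ∈ involSet G f, Double y q := by
  obtain ⟨x, hx, hx2, hxq⟩ := exists_invol_swap22 hG q (hodd q)
  have hS : 0 < (involSet G f).card := Finset.card_pos.2
    ⟨x, mem_involSet.2 ⟨hx, hx2, ne_one_of_swap22 hxq, (fxp_swap hG hodd hx hx2 hxq).trans hf.symm⟩⟩
  have e := double_eq hG f q
  have hpos : 0 < (involSet G f).card * ((Fintype.card α - f) * (Fintype.card α - f - 2)) :=
    Nat.mul_pos hS (Nat.mul_pos (by omega) (by omega))
  rw [e] at hpos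
  obtain ⟨y, hy⟩ := Finset.card_pos.1 (Nat.pos_of_mul_pos_left hpos)
  exact ⟨y, Finset.mem_filter.1 hy⟩

theorem fxp_double {g : Perm α} {q : Fin 4 ↪ α} (hn : 6 ≤ Fintype.card α) (hg : g ∈ G) (h2 : g * g = 1)
    (h : Double g q) : g ∈ involSet G (2 + Fintype.card α % 2) := by
  obtain ⟨y, hy, hyq⟩ := exists_double_f hG hodd rfl hn q
  obtain ⟨hyG, hy2, -, hyf⟩ := mem_involSet.1 hy
  obtain ⟨s, -, e⟩ := exists_conj_of_invol (hodd q) hy2 h2 (double_coset hg hyG h hyq)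
  exact mem_involSet.2 ⟨hg, h2, ne_one_of_double h, by rw [← e, card_fxp_conj, hyf]⟩

theorem exists_pattern (q : Fin 4 ↪ α) (σ : Perm (Fin 4)) : ∃ h ∈ G, ∀ i, h (q i) = q (σ i) := by
  obtain ⟨h, hh, e⟩ := hG.exists_emb q (reord q σ)
  exact ⟨h, hh, fun i => DFunLike.congr_fun e i⟩

/-- An involution with a given pattern commuting with a given one. -/
theorem comm_lift (q : Fin 4 ↪ α) {σ τ : Perm (Fin 4)} (hσ : σ * σ = 1) (hστ : σ * τ = τ * σ) {x : Perm α}
    (hx : x ∈ G) (hx2 : x * x = 1) (hxq : ∀ i, x (q i) = q (τ i)) :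
    ∃ g ∈ G, g * g = 1 ∧ Commute g x ∧ ∀ i, g (q i) = q (σ i) := by
  obtain ⟨h, hh, hhq⟩ := exists_pattern hG hodd q σ
  have hiq : ∀ i, h⁻¹ (q i) = q (σ i) := fun i => by
    rw [Perm.inv_eq_iff_eq, hhq, ← Perm.mul_apply, hσ, Perm.one_apply]
  have hxT : x⁻¹ * (h * x * h⁻¹) ∈ pfix G (pts q) := by
    refine ⟨mul_mem (inv_mem hx) (mul_mem (mul_mem hh hx) (inv_mem hh)), forall_pts fun i => ?_⟩
    rw [Perm.mul_apply, Perm.mul_apply, Perm.mul_apply, hiq, hxq, hhq, Perm.inv_eq_iff_eq, hxq]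
    congr 1
    rw [← Perm.mul_apply, ← Perm.mul_apply, hστ, mul_assoc, hσ, mul_one]
  obtain ⟨s, hs, e⟩ := exists_conj_of_invol (hodd q) hx2 (g := h * x * h⁻¹)
    (by rw [show h * x * h⁻¹ * (h * x * h⁻¹) = h * (x * x) * h⁻¹ by group, hx2, mul_one, mul_inv_cancel]) hxT
  set g := s⁻¹ * h with hg
  have hgG : g ∈ G := mul_mem (inv_mem hs.1) hh
  have hgc : Commute g x := by
    show g * x = x * g
    calc g * x = s⁻¹ * (h * x * h⁻¹) * h := by simp only [hg]; group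
      _ = s⁻¹ * (s * x * s⁻¹) * h := by rw [e]
      _ = x * g := by simp only [hg]; group
  have hgq : ∀ i, g (q i) = q (σ i) := fun i => by
    rw [hg, Perm.mul_apply, hhq, Perm.inv_eq_iff_eq, hs.2 _ (mem_pts q _)]
  have hgg : g * g ∈ pfix G (pts q) := ⟨mul_mem hgG hgG, forall_pts fun i => by
    rw [Perm.mul_apply, hgq, hgq, ← Perm.mul_apply, hσ, Perm.one_apply]⟩
  obtain ⟨l, hl⟩ := hodd q
  refine ⟨g * (g * g) ^ l, mul_mem hgG (pow_mem (mul_mem hgG hgG) l), ?_,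
    hgc.mul_left ((hgc.mul_left hgc).pow_left l), fun i => ?_⟩
  · have hT1 := congrArg Subtype.val (pow_card_eq_one' (G := pfix G (pts q)) (x := ⟨_, hgg⟩))
    simp only [SubmonoidClass.coe_pow, OneMemClass.coe_one] at hT1
    rw [hl] at hT1
    have hc : Commute g ((g * g) ^ l) := ((Commute.refl g).mul_right (Commute.refl g)).pow_right l
    calc g * (g * g) ^ l * (g * (g * g) ^ l) = g * g * ((g * g) ^ l * (g * g) ^ l) := by
          rw [mul_assoc g ((g * g) ^ l), ← mul_assoc ((g * g) ^ l) g, ← hc.eq]; group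
      _ = 1 := by rw [← pow_add, ← pow_succ', show l + l + 1 = 2 * l + 1 by omega, hT1]
  · rw [Perm.mul_apply, (pow_mem hgg l).2 _ (mem_pts q i), hgq]

end main

end CfsgLib.Char.OddFour
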