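import Cfsg.Agent.Lib.Char.OddFour.Basic

/-!
There are no such groups of even degree at least eight.
-/

set_option autoImplicit false
set_option linter.unusedSectionVars false

namespace CfsgLib.Char.OddFour

open Equiv CfsgLib.Char.Homogeneous

variable {α : Type*} [Fintype α] [DecidableEq α] {G : Subgroup (Perm α)}
variable (hG : Ktr G 4) (hodd : ∀ q : Fin 4 ↪ α, Odd (Nat.card (pfix G (pts q))))
include hG hodd

theorem fxp_swap_even (hpar : Fintype.card α % 2 = 0) {x : Perm α} {q : Fin 4 ↪ α} (hx : x ∈ G)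
    (hx2 : x * x = 1) (hxq : Swap22 x q) : fxp x = {q 2, q 3} := by
  refine (Finset.eq_of_subset_of_card_le (fun y hy => ?_) ?_).symm
  · simp only [Finset.mem_insert, Finset.mem_singleton] at hy
    rcases hy with rfl | rfl
    exacts [mem_fxp.2 hxq.2.2.1, mem_fxp.2 hxq.2.2.2]
  · rw [fxp_swap hG hodd hx hx2 hxq, Finset.card_pair (emb_ne q (by decide))]
    omega

/-- The centraliser orbits outside. -/
theorem card_cen_orb (hn : 8 ≤ Fintype.card α) (hpar : Fintype.card α % 2 = 0) {x : Perm α}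
    {q : Fin 4 ↪ α} (hx : x ∈ G) (hx2 : x * x = 1) (hxq : Swap22 x q) {z : α} (hz : z ∉ pts q) :
    2 * (orb (Cen (pfix G (pts q)) x) z).card = Fintype.card α - 4 ∧
      x z ∉ orb (Cen (pfix G (pts q)) x) z := by
  have hfx := fxp_swap_even hG hodd hpar hx hx2 hxq
  have hxz : x z ≠ z := fun e => hz (by
    have h : z ∈ fxp x := mem_fxp.2 e
    rw [hfx] at h
    simp only [Finset.mem_insert, Finset.mem_singleton] at h
    rcases h with rfl | rfl <;> exact mem_pts q _)
  have hxz' : x z ∉ pts q := notMem_pts hx2 (swap22_maps hxq) hz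
  set q' := pairQuad q 0 1 (by decide) z (x z) hz hxz' hxz.symm with hq'
  have hxq' : Double x q' := ⟨hxq.1, hxq.2.1, rfl, invol_apply hx2 z⟩
  set C := Cen (pfix G (pts q)) x with hC
  have hCo : Odd (Nat.card C) := odd_cen (hodd q)
  have heq : Cen (pfix G (pts q')) x = C ⊓ MulAction.stabilizer (Perm α) z := by
    ext t
    constructor
    · rintro ⟨ht, htc⟩
      have k0 : t (q 0) = q 0 := ht.2 _ (mem_pts q' 0)
      have k1 : t (q 1) = q 1 := ht.2 _ (mem_pts q' 1)
      have k2 : t (q 2) = q 2 ∨ t (q 2) = q 3 := by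
        have := commute_maps_fxp htc (show q 2 ∈ fxp x by rw [hfx]; simp)
        rw [hfx] at this
        simpa using this
      have k3 : t (q 3) = q 3 ∨ t (q 3) = q 2 := by
        have := commute_maps_fxp htc (show q 3 ∈ fxp x by rw [hfx]; simp)
        rw [hfx] at this
        simpa [or_comm] using this
      refine Subgroup.mem_inf.2 ⟨⟨⟨ht.1, forall_pts fun i => ?_⟩, htc⟩, ht.2 _ (mem_pts q' 2)⟩
      fin_cases i
      exacts [k0, k1, fix_of_pair (hodd q') ht k2 k3.symm, fix_of_pair (hodd q') ht k3 k2.symm]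
    · intro h
      obtain ⟨⟨ht, htc⟩, htz'⟩ := Subgroup.mem_inf.1 h
      have htz : t z = z := htz'
      refine ⟨⟨ht.1, forall_pts fun i => ?_⟩, htc⟩
      fin_cases i
      exacts [ht.2 _ (mem_pts q 0), ht.2 _ (mem_pts q 1), htz,
        (apply_comm htc z).trans (congrArg x htz)]
  have h1 := cent_eq hG hodd (f := 2) (by omega) q q' hx hx2 hxq (y := x)
    (mem_involSet.2 ⟨hx, hx2, ne_one_of_swap22 hxq, by rw [hfx, Finset.card_pair (emb_ne q (by decide))]⟩) hxq'
  rw [heq, ← hC, show Fintype.card α - 2 - 2 = Fintype.card α - 4 by omega, show 2 * 2 - 2 = 2 from rfl] at h1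
  constructor
  · refine Nat.eq_of_mul_eq_mul_right (Nat.card_pos (α := (C ⊓ MulAction.stabilizer (Perm α) z :
      Subgroup (Perm α)))) ?_
    rw [mul_assoc, card_orb_mul, h1]
  · intro hm
    obtain ⟨t, ⟨htT, htc⟩, e⟩ := mem_orb.1 hm
    refine hxz (e.symm.trans (fix_of_sq (hodd q) htT ?_))
    rw [e, apply_comm htc, e, invol_apply hx2]

theorem even_false (hn : 8 ≤ Fintype.card α) (hpar : Fintype.card α % 2 = 0) : False := by
  obtain ⟨D₀, -, hD⟩ := Finset.exists_subset_card_eq (s := (Finset.univ : Finset α)) (n := 4)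
    (by rw [Finset.card_univ]; omega)
  let q : Fin 4 ↪ α := ((Finset.equivFinOfCardEq hD).symm.toEmbedding).trans (Function.Embedding.subtype _)
  set T := pfix G (pts q) with hT
  obtain ⟨x, hx, hx2, hxq⟩ := exists_invol_swap22 hG q (hodd q)
  obtain ⟨z, hz⟩ : ∃ z, z ∉ pts q := by
    by_contra hc
    push_neg at hc
    have := Finset.card_le_card (fun y _ => hc y : Finset.univ ⊆ pts q)
    rw [Finset.card_univ, card_pts] at this
    omega
  have hxmaps := swap22_maps hxq
  have hxz := notMem_pts hx2 hxmaps hz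
  set C := Cen T x with hC
  have hCT : C ≤ T := fun _ h => h.1
  obtain ⟨hA2, hAx⟩ := card_cen_orb hG hodd hn hpar hx hx2 hxq hz
  obtain ⟨hB2, -⟩ := card_cen_orb hG hodd hn hpar hx hx2 hxq hxz
  set A := orb C z with hA
  set B := orb C (x z) with hB
  have hTout : ∀ w ∉ pts q, ∀ v ∈ orb T w, v ∉ pts q := by
    intro w hw v hv hc
    obtain ⟨t, ht, rfl⟩ := mem_orb.1 hv
    exact hw (by have := ht.2 _ hc; rwa [← t.injective this])
  have hAB : Disjoint A B := Finset.disjoint_left.2 fun w h1 h2 => hAx (by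
    rw [← show orb C w = A from orb_eq_of_mem h1, show orb C w = B from orb_eq_of_mem h2]
    exact self_mem_orb C _)
  have hU : A ∪ B = (pts q)ᶜ := by
    refine Finset.eq_of_subset_of_card_le (fun w hw => Finset.mem_compl.2 ?_) ?_
    · rcases Finset.mem_union.1 hw with h | h
      · obtain ⟨t, ht, e⟩ := mem_orb.1 h
        exact hTout z hz w (mem_orb.2 ⟨t, hCT ht, e⟩)
      · obtain ⟨t, ht, e⟩ := mem_orb.1 h
        exact hTout _ hxz w (mem_orb.2 ⟨t, hCT ht, e⟩)
    · rw [Finset.card_union_of_disjoint hAB, Finset.card_compl, card_pts]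
      omega
  have hAodd : Odd A.card := odd_orb (odd_cen (hodd q)) z
  have hzA : z ∈ A := self_mem_orb C z
  have hAT : A ⊆ orb T z := fun w hw => by
    obtain ⟨t, ht, e⟩ := mem_orb.1 hw
    exact mem_orb.2 ⟨t, hCT ht, e⟩
  have hTA : orb T z = A := by
    refine Finset.Subset.antisymm (fun v hv => ?_) hAT
    by_contra hvA
    have hvB : v ∈ B := (Finset.mem_union.1 (hU.ge (Finset.mem_compl.2 (hTout z hz v hv)))).resolve_left hvA
    have hBT : B ⊆ orb T z := fun w hw => by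
      rw [← orb_eq_of_mem hv]
      rw [hB, ← orb_eq_of_mem hvB] at hw
      obtain ⟨t, ht, e⟩ := mem_orb.1 hw
      exact mem_orb.2 ⟨t, hCT ht, e⟩
    have heq : orb T z = A ∪ B := Finset.Subset.antisymm
      (fun w hw => hU.ge (Finset.mem_compl.2 (hTout z hz w hw))) (Finset.union_subset hAT hBT)
    obtain ⟨l, hl⟩ := odd_orb (hodd q) z
    rw [← hT, heq, Finset.card_union_of_disjoint hAB] at hl
    obtain ⟨l', hl'⟩ := hAodd
    omega
  have hTA' : ∀ t ∈ T, ∀ w ∈ A, t w ∈ A := fun t ht w hw => by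
    rw [← hTA] at hw ⊢
    rw [← orb_eq_of_mem hw]
    exact mem_orb.2 ⟨t, ht, rfl⟩
  have hdich : ∀ g ∈ G, (∀ p ∈ pts q, g p ∈ pts q) → g * g = 1 →
      (∀ w ∈ A, g w ∈ A) ∨ ∀ w ∈ A, g w ∈ B := by
    intro g hg hgq hg2
    have hg' : ∀ w ∈ A, g w ∈ orb T (g z) := fun w hw => by
      rw [← hTA] at hw
      obtain ⟨t, ht, rfl⟩ := mem_orb.1 hw
      exact mem_orb.2 ⟨g * t * g⁻¹, conj_mem_pfix' hg hgq ht, by simp⟩
    by_cases hgz : g z ∈ A
    · exact Or.inl fun w hw => by
        have := hg' w hw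
        rwa [orb_eq_of_mem (hTA.ge hgz), hTA] at this
    · refine Or.inr fun w hw => ?_
      have h1 := hg' w hw
      refine (Finset.mem_union.1 (hU.ge (Finset.mem_compl.2
        (hTout _ (notMem_pts hg2 hgq hz) _ h1)))).resolve_left fun hc => hgz ?_
      rw [← hTA] at hc ⊢
      rw [← orb_eq_of_mem hc, orb_eq_of_mem h1]
      exact self_mem_orb T _
  have hswap : ∀ (σ : Perm (Fin 4)), ∀ g ∈ G, g * g = 1 → Swap22 g (reord q σ) →
      ∀ w ∈ A, g w ∈ B := by
    intro σ g hg hg2 hgq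
    have hgq' : ∀ p ∈ pts q, g p ∈ pts q := pts_reord q σ ▸ swap22_maps hgq
    refine (hdich g hg hgq' hg2).resolve_left fun hgA => ?_
    have hfg := fxp_swap_even hG hodd hpar hg hg2 hgq
    have hfree : ∀ w ∈ A, g w ≠ w := fun w hw e => by
      have h : w ∈ fxp g := mem_fxp.2 e
      rw [hfg] at h
      simp only [Finset.mem_insert, Finset.mem_singleton] at h
      have hwp : w ∈ pts (reord q σ) := by rcases h with rfl | rfl <;> exact mem_pts _ _
      rw [pts_reord] at hwp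
      exact (Finset.mem_compl.1 (hU.le (Finset.mem_union_left _ hw))) hwp
    obtain ⟨ρ, ⟨g', hg', hρ⟩, hρg⟩ := restr_of_maps (K := G) (U := A) hg hgA
    have h2 : ρ * ρ = 1 := Perm.ext fun u => Subtype.ext (by
      rw [Perm.mul_apply, hρg, hρg, invol_apply hg2]
      rfl)
    have h3 := card_fxp_mod_two h2
    have h4 : fxp ρ = ∅ := Finset.eq_empty_of_forall_notMem fun u hu => hfree u u.2 (by
      rw [← hρg u, mem_fxp.1 hu])
    rw [h4, Fintype.card_coe, Finset.card_empty] at h3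
    obtain ⟨l', hl'⟩ := hAodd
    omega
  -- an involution of double type preserves the orbit and fixes one of its points
  have hdouble : ∀ σ : Perm (Fin 4), ∀ y ∈ G, y * y = 1 → Double y (reord q σ) →
      (∀ w ∈ A, y w ∈ A) ∧ ∃ v ∈ A, ∀ w ∈ A, y w = w ↔ w = v := by
    intro σ y hy hy2 hyq
    set q1 := reord q σ with hq1
    obtain ⟨g, hg, hg2, hgq⟩ := exists_invol_swap22 hG q1 (hodd q1)
    set q2 := reord q1 (swap 0 2 * swap 1 3) with hq2
    obtain ⟨g', hg', hg2', hgq'⟩ := exists_invol_swap22 hG q2 (hodd q2)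
    have hgg : Double (g * g') q1 := by
      obtain ⟨h1, h2, h3, h4⟩ := hgq
      obtain ⟨k1, k2, k3, k4⟩ := hgq'
      have e0' : q2 0 = q1 2 := by simp [q2, reord, swap_apply_def]
      have e1' : q2 1 = q1 3 := by simp [q2, reord, swap_apply_def]
      have e2' : q2 2 = q1 0 := by simp [q2, reord, swap_apply_def]
      have e3' : q2 3 = q1 1 := by simp [q2, reord, swap_apply_def]
      rw [e0', e1'] at k1
      rw [e0', e1'] at k2
      rw [e2'] at k3
      rw [e3'] at k4
      refine ⟨?_, ?_, ?_, ?_⟩ <;> rw [Perm.mul_apply]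
      · rw [k3, h1]
      · rw [k4, h2]
      · rw [k1, h4]
      · rw [k2, h3]
    have hs1 := hswap σ g hg hg2 hgq
    have hs2 : ∀ w ∈ A, g' w ∈ B := by
      refine hswap (σ * (swap 0 2 * swap 1 3)) g' hg' hg2' ?_
      rw [show reord q (σ * (swap 0 2 * swap 1 3)) = q2 from rfl]
      exact hgq'
    have hBA : ∀ w ∈ B, g w ∈ A := fun w hw => by
      have hin : A.image g ⊆ B := Finset.image_subset_iff.2 hs1
      have := (Finset.eq_of_subset_of_card_le hin (by
        rw [Finset.card_image_of_injective _ g.injective]; omega)).ge hw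
      obtain ⟨v, hv, rfl⟩ := Finset.mem_image.1 this
      rwa [invol_apply hg2]
    have hyT : (g * g')⁻¹ * y ∈ T := by
      have h := double_coset hy (mul_mem hg hg') hyq hgg
      rwa [hq1, pts_reord] at h
    have hyA : ∀ w ∈ A, y w ∈ A := fun w hw => by
      have := hBA _ (hs2 _ (hTA' _ hyT w hw))
      rwa [← Perm.mul_apply, ← Perm.mul_apply, mul_inv_cancel_left] at this
    have hyf := (mem_involSet.1 (fxp_double hG hodd (by omega) hy hy2 hyq)).2.2.2
    obtain ⟨ρ, -, hρy⟩ := restr_of_maps (K := G) (U := A) hy hyA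
    have h2 : ρ * ρ = 1 := Perm.ext fun u => Subtype.ext (by
      rw [Perm.mul_apply, hρy, hρy, invol_apply hy2]
      rfl)
    have h3 := card_fxp_mod_two h2
    have hle : (fxp ρ).card ≤ 2 := by
      refine le_of_le_of_eq (Finset.card_le_card_of_injOn Subtype.val (fun u hu => ?_)
        Subtype.val_injective.injOn) (hyf.trans (by omega))
      exact mem_fxp.2 (by rw [← hρy u, mem_fxp.1 hu])
    rw [Fintype.card_coe] at h3
    obtain ⟨l', hl'⟩ := hAodd
    obtain ⟨v, hv⟩ := Finset.card_eq_one.1 (show (fxp ρ).card = 1 by omega)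
    refine ⟨hyA, v, v.2, fun w hw => ⟨fun e => ?_, ?_⟩⟩
    · have : (⟨w, hw⟩ : A) ∈ fxp ρ := mem_fxp.2 (Subtype.ext (by rw [hρy]; exact e))
      rw [hv, Finset.mem_singleton] at this
      exact congrArg Subtype.val this
    · rintro rfl
      rw [← hρy v, mem_fxp.1 (hv.ge (Finset.mem_singleton_self v))]
  -- three commuting ones
  obtain ⟨y0, hy0, hy0q⟩ := exists_double_f hG hodd rfl (by omega) q
  obtain ⟨hy0G, hy02, -, -⟩ := mem_involSet.1 hy0
  obtain ⟨y1, hy1G, hy12, hc, hy1q⟩ := comm_lift hG hodd q (σ := swap 0 2 * swap 1 3)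
    (τ := swap 0 1 * swap 2 3) (by decide) (by decide) hy0G hy02 (fun i => by
      obtain ⟨h1, h2, h3, h4⟩ := hy0q
      fin_cases i <;> simp [swap_apply_def, h1, h2, h3, h4])
  have hy1D : Double y1 (reord q (swap 1 2)) := by
    refine ⟨?_, ?_, ?_, ?_⟩ <;> simp [reord, hy1q, swap_apply_def]
  have hy2D : Double (y0 * y1) (reord q (swap 1 3)) := by
    obtain ⟨h1, h2, h3, h4⟩ := hy0q
    refine ⟨?_, ?_, ?_, ?_⟩ <;> simp [reord, hy1q, swap_apply_def, h1, h2, h3, h4]
  have hy22 : y0 * y1 * (y0 * y1) = 1 := by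
    rw [show y0 * y1 * (y0 * y1) = y0 * (y1 * y0) * y1 by group, hc.eq,
      show y0 * (y0 * y1) * y1 = (y0 * y0) * (y1 * y1) by group, hy02, hy12, one_mul]
  obtain ⟨hA0, v, hvA, hv⟩ := hdouble 1 y0 hy0G hy02 (by
    rw [show reord q 1 = q from Function.Embedding.ext fun _ => rfl]; exact hy0q)
  obtain ⟨hA1, v1, hv1A, hv1⟩ := hdouble _ y1 hy1G hy12 hy1D
  obtain ⟨hA2', v2, hv2A, hv2⟩ := hdouble _ (y0 * y1) (mul_mem hy0G hy1G) hy22 hy2D
  have hy0v : y0 v = v := (hv v hvA).2 rfl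
  have hy1v : y1 v = v := (hv _ (hA1 v hvA)).1 (by rw [← apply_comm hc, hy0v])
  have e1 : v = v1 := (hv1 v hvA).1 hy1v
  have e2 : v = v2 := (hv2 v hvA).1 (by rw [Perm.mul_apply, hy1v, hy0v])
  have hfix : ∀ (y : Perm α), (∀ w ∈ A, y w = w ↔ w = v) → ∀ t ∈ T, Commute t y → t v = v :=
    fun y hy t ht htc => (hy _ (hTA' t ht v hvA)).1 (by rw [← apply_comm htc, (hy v hvA).2 rfl])
  have hTv : ∀ t ∈ T, t v = v := by
    intro t ht
    have hy0m : ∀ s ∈ T, y0 * s * y0⁻¹ ∈ T := fun s hs => conj_mem_pfix' hy0G (double_maps hy0q) hs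
    have hy1m : ∀ s ∈ T, y1 * s * y1⁻¹ ∈ T := fun s hs =>
      conj_mem_pfix' hy1G (maps_pts hy1q) hs
    obtain ⟨d, hd, c, hc', j, hj, hdy, hcy, hjy, rfl⟩ := decomp (hodd q) hy02 hy12 hc.symm hy0m hy1m ht
    simp only [Perm.mul_apply]
    rw [hfix _ (e2 ▸ hv2) j hj hjy, hfix _ (e1 ▸ hv1) c hc' hcy, hfix _ (e2 ▸ hv2) j hj hjy, hfix _ hv d hd hdy]
  have hcard : A.card = 1 := Finset.card_eq_one.2 ⟨v, Finset.eq_singleton_iff_unique_mem.2 ⟨hvA, fun w hw => by
    rw [← hTA] at hvA hw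
    rw [← orb_eq_of_mem hvA] at hw
    obtain ⟨t, ht, rfl⟩ := mem_orb.1 hw
    exact hTv t ht⟩⟩
  omega

end CfsgLib.Char.OddFour
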