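import Cfsg.Agent.Lib.Char.OddFour.Basic

/-!
Odd degree at least nine: the third fixed point of a transposition involution is fixed by the four-point
stabiliser.
-/

set_option autoImplicit false
set_option linter.unusedSectionVars false

namespace CfsgLib.Char.OddFour

open Equiv CfsgLib.Char.Homogeneous

variable {α : Type*} [Fintype α] [DecidableEq α] {G : Subgroup (Perm α)}
variable (hG : Ktr G 4) (hodd : ∀ q : Fin 4 ↪ α, Odd (Nat.card (pfix G (pts q))))
include hG hodd

theorem exists_third (hpar : Fintype.card α % 2 = 1) {x : Perm α} {q : Fin 4 ↪ α} (hx : x ∈ G)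
    (hx2 : x * x = 1) (hxq : Swap22 x q) : ∃ u, u ∉ pts q ∧ fxp x = {q 2, q 3, u} := by
  obtain ⟨u, hu, hu'⟩ := Finset.exists_mem_notMem_of_card_lt_card
    (show ({q 2, q 3} : Finset α).card < (fxp x).card by
      rw [fxp_swap hG hodd hx hx2 hxq, hpar]
      exact lt_of_le_of_lt Finset.card_le_two (by norm_num))
  simp only [Finset.mem_insert, Finset.mem_singleton, not_or] at hu'
  refine ⟨u, fun hm => ?_, (Finset.eq_of_subset_of_card_le ?_ ?_).symm⟩
  · simp only [pts, Finset.mem_map, Finset.mem_univ, true_and] at hm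
    obtain ⟨j, rfl⟩ := hm
    rw [mem_fxp] at hu
    fin_cases j
    · exact emb_ne q (show (1 : Fin 4) ≠ 0 by decide) (hxq.1.symm.trans hu)
    · exact emb_ne q (show (0 : Fin 4) ≠ 1 by decide) (hxq.2.1.symm.trans hu)
    · exact hu'.1 rfl
    · exact hu'.2 rfl
  · intro y hy
    simp only [Finset.mem_insert, Finset.mem_singleton] at hy
    rcases hy with rfl | rfl | rfl
    exacts [mem_fxp.2 hxq.2.2.1, mem_fxp.2 hxq.2.2.2, hu]
  · rw [fxp_swap hG hodd hx hx2 hxq, hpar, Finset.card_eq_three.2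
      ⟨q 2, q 3, u, emb_ne q (by decide), Ne.symm hu'.1, Ne.symm hu'.2, rfl⟩]

theorem fix_of_notMem (hpar : Fintype.card α % 2 = 1) {x t : Perm α} {q : Fin 4 ↪ α} (hx : x ∈ G)
    (hx2 : x * x = 1) (hxq : Swap22 x q) (ht : t ∈ pfix G (pts q)) (htc : Commute t x) {u : α}
    (hu : u ∈ fxp x) : t u = u := by
  by_cases hq : u ∈ pts q
  · exact ht.2 u hq
  obtain ⟨u', hu', hfx⟩ := exists_third hG hodd hpar hx hx2 hxq
  have h := commute_maps_fxp htc hu
  rw [hfx] at h hu
  simp only [Finset.mem_insert, Finset.mem_singleton] at h hu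
  obtain rfl : u = u' := by
    rcases hu with rfl | rfl | e
    exacts [absurd (mem_pts q _) hq, absurd (mem_pts q _) hq, e]
  rcases h with h | h | h
  · exact absurd (by rw [t.injective (h.trans (ht.2 _ (mem_pts q 2)).symm)]; exact mem_pts q 2) hq
  · exact absurd (by rw [t.injective (h.trans (ht.2 _ (mem_pts q 3)).symm)]; exact mem_pts q 3) hq
  · exact h

/-- The commuting companion. -/
theorem exists_companion (hpar : Fintype.card α % 2 = 1) {x : Perm α} {q : Fin 4 ↪ α} (hx : x ∈ G)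
    (hx2 : x * x = 1) (hxq : Swap22 x q) :
    ∃ x' ∈ G, x' * x' = 1 ∧ Commute x' x ∧ Swap22 x' (reord q (swap 0 2 * swap 1 3)) ∧
      Double (x * x') q ∧ x * x' * (x * x') = 1 ∧ ∀ u ∈ fxp x, u ∉ pts q → x' u = u := by
  obtain ⟨x', hx', hx2', hc, hq'⟩ := comm_lift hG hodd q (σ := swap 2 3) (τ := swap 0 1)
    (by decide) (by decide) hx hx2 (fun i => by
      obtain ⟨h1, h2, h3, h4⟩ := hxq
      fin_cases i <;> simp [swap_apply_def, h1, h2, h3, h4])
  refine ⟨x', hx', hx2', hc, ?_, ?_, ?_, ?_⟩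
  · refine ⟨?_, ?_, ?_, ?_⟩ <;> simp [reord, hq', swap_apply_def]
  · obtain ⟨h1, h2, h3, h4⟩ := hxq
    refine ⟨?_, ?_, ?_, ?_⟩ <;> simp [hq', swap_apply_def, h1, h2, h3, h4]
  · rw [show x * x' * (x * x') = x * (x' * x) * x' by group, hc.eq,
      show x * (x * x') * x' = (x * x) * (x' * x') by group, hx2, hx2', one_mul]
  · intro u hu hq
    obtain ⟨u', hu', hfx⟩ := exists_third hG hodd hpar hx hx2 hxq
    have h := commute_maps_fxp hc hu
    rw [hfx] at h hu
    simp only [Finset.mem_insert, Finset.mem_singleton] at h hu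
    obtain rfl : u = u' := by
      rcases hu with rfl | rfl | e
      exacts [absurd (mem_pts q _) hq, absurd (mem_pts q _) hq, e]
    have k2 : x' (q 2) = q 3 := by simp [hq', swap_apply_def]
    have k3 : x' (q 3) = q 2 := by simp [hq', swap_apply_def]
    rcases h with h | h | h
    · exact absurd (by rw [x'.injective (h.trans k3.symm)]; exact mem_pts q 3) hq
    · exact absurd (by rw [x'.injective (h.trans k2.symm)]; exact mem_pts q 2) hq
    · exact h

theorem double_frame (hn : 6 ≤ Fintype.card α) (hpar : Fintype.card α % 2 = 1) {x y : Perm α}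
    {q : Fin 4 ↪ α} (hx : x ∈ G) (hx2 : x * x = 1) (hxq : Swap22 x q) (hy : y ∈ G) (hy2 : y * y = 1)
    (hyq : Double y q) (hc : Commute x y) {u : α} (hu : u ∉ pts q) (hfx : fxp x = {q 2, q 3, u})
    (hyu : y u = u) :
    ∃ v, v ∉ pts q ∧ x v ∉ pts q ∧ v ≠ u ∧ x v ≠ u ∧ x v ≠ v ∧ fxp y = {u, v, x v} := by
  have hyf : (fxp y).card = 3 := by rw [(mem_involSet.1 (fxp_double hG hodd hn hy hy2 hyq)).2.2.2, hpar]
  have hout : ∀ v ∈ fxp y, v ∉ pts q := by
    intro v hv hm
    simp only [pts, Finset.mem_map, Finset.mem_univ, true_and] at hm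
    obtain ⟨j, rfl⟩ := hm
    rw [mem_fxp] at hv
    obtain ⟨h1, h2, h3, h4⟩ := hyq
    fin_cases j
    · exact emb_ne q (show (1 : Fin 4) ≠ 0 by decide) (h1.symm.trans hv)
    · exact emb_ne q (show (0 : Fin 4) ≠ 1 by decide) (h2.symm.trans hv)
    · exact emb_ne q (show (3 : Fin 4) ≠ 2 by decide) (h3.symm.trans hv)
    · exact emb_ne q (show (2 : Fin 4) ≠ 3 by decide) (h4.symm.trans hv)
  obtain ⟨v, hv, hvu⟩ := Finset.exists_mem_ne (show 1 < (fxp y).card by omega) u
  have hxv := commute_maps_fxp hc hv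
  have hne : x v ≠ v := fun e => by
    have h : v ∈ fxp x := mem_fxp.2 e
    rw [hfx] at h
    simp only [Finset.mem_insert, Finset.mem_singleton] at h
    rcases h with rfl | rfl | rfl
    exacts [hout _ hv (mem_pts q _), hout _ hv (mem_pts q _), hvu rfl]
  have hxu : x u = u := mem_fxp.1 (by rw [hfx]; simp)
  have hne' : x v ≠ u := fun e => hvu (x.injective (e.trans hxu.symm))
  refine ⟨v, hout v hv, hout _ hxv, hvu, hne', hne, (Finset.eq_of_subset_of_card_le ?_ ?_).symm⟩
  · intro z hz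
    simp only [Finset.mem_insert, Finset.mem_singleton] at hz
    rcases hz with rfl | rfl | rfl
    exacts [mem_fxp.2 hyu, hv, hxv]
  · rw [hyf, Finset.card_eq_three.2 ⟨u, v, x v, Ne.symm hvu, Ne.symm hne', hne.symm, rfl⟩]

theorem cen_eq_one_of_eleven (hn : Fintype.card α = 11) {x t : Perm α} {S : Finset α} (hS : S.card = 7)
    (hx2 : x * x = 1) (hxS : ∀ p ∈ S, x p ∈ S) (hfx : fxp x ⊆ S) {T : Subgroup (Perm α)}
    (hT : Odd (Nat.card T)) (ht : t ∈ T) (htS : ∀ p ∈ S, t p = p) (htc : Commute t x) : t = 1 := by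
  refine Perm.ext fun z => ?_
  show t z = z
  by_cases hz : z ∈ S
  · exact htS z hz
  have hxx : ∀ p, x (x p) = p := invol_apply hx2
  have hout : ∀ p, p ∉ S → x p ∉ S ∧ t p ∉ S ∧ x p ≠ p := fun p hp =>
    ⟨fun hc => hp (by rw [← hxx p]; exact hxS _ hc), fun hc => hp (by
      rwa [t.injective (htS _ hc)] at hc), fun e => hp (hfx (mem_fxp.2 e))⟩
  obtain ⟨hxz, htz, hne⟩ := hout z hz
  have h4 : Sᶜ.card = 4 := by rw [Finset.card_compl]; omega
  -- a point sent to its partner returns
  have hback : ∀ s ∈ T, Commute s x → (s z = z ∨ s z = x z) → s z = z := by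
    intro s hs hsc h
    rcases h with h | h
    · exact h
    · exact fix_of_sq hT hs (by rw [h, apply_comm hsc, h, hxx])
  by_cases h : t z = z ∨ t z = x z
  · exact hback t ht htc h
  push_neg at h
  obtain ⟨hxtz, httz, hne'⟩ := hout _ htz
  have k1 : x (t z) ≠ z := fun e => h.2 (by rw [← hxx (t z), e])
  have k2 : x (t z) ≠ x z := fun e => h.1 (x.injective e)
  have hR : ({z, x z, t z, x (t z)} : Finset α) = Sᶜ := by
    refine Finset.eq_of_subset_of_card_le (fun p hp => ?_) ?_
    · simp only [Finset.mem_insert, Finset.mem_singleton] at hp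
      rw [Finset.mem_compl]
      rcases hp with rfl | rfl | rfl | rfl <;> assumption
    · rw [h4]
      simp [Finset.card_insert_of_notMem, hne.symm, Ne.symm h.1, Ne.symm h.2, Ne.symm k1, Ne.symm k2, hne'.symm]
  have h5 := hR.ge (Finset.mem_compl.2 httz)
  simp only [Finset.mem_insert, Finset.mem_singleton] at h5
  refine fix_of_sq hT ht (hback (t * t) (mul_mem ht ht) (htc.mul_left htc) ?_)
  rcases h5 with h5 | h5 | h5 | h5
  · exact Or.inl h5
  · exact Or.inr h5
  · exact absurd (t.injective h5) h.1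
  · exact absurd (t.injective (h5.trans (apply_comm htc z).symm)) h.2

theorem fix_third (hn : 9 ≤ Fintype.card α) (hpar : Fintype.card α % 2 = 1) {x : Perm α}
    {q : Fin 4 ↪ α} (hx : x ∈ G) (hx2 : x * x = 1) (hxq : Swap22 x q) {u : α} (hu : u ∈ fxp x) :
    ∀ t ∈ pfix G (pts q), t u = u := by
  by_cases hq : u ∈ pts q
  · exact fun t ht => ht.2 u hq
  set T := pfix G (pts q) with hT
  obtain ⟨x', hx', hx2', hc, hxq', hyq, hy2, hx'u⟩ := exists_companion hG hodd hpar hx hx2 hxq
  have hx'u' := hx'u u hu hq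
  set y := x * x' with hy
  have hyG : y ∈ G := mul_mem hx hx'
  obtain ⟨u', hu', hfx⟩ := exists_third hG hodd hpar hx hx2 hxq
  obtain rfl : u = u' := by
    rw [hfx] at hu
    simp only [Finset.mem_insert, Finset.mem_singleton] at hu
    rcases hu with rfl | rfl | e
    exacts [absurd (mem_pts q _) hq, absurd (mem_pts q _) hq, e]
  have hxu : x u = u := mem_fxp.1 hu
  have hyu : y u = u := by rw [hy, Perm.mul_apply, hx'u', hxu]
  have hxy : Commute x y := (Commute.refl x).mul_right hc.symm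
  obtain ⟨v, hv, hxv, hvu, hxvu, hxvv, hfy⟩ := double_frame hG hodd (by omega) hpar hx hx2 hxq hyG hy2
    hyq hxy hq hfx hyu
  have hu'' : u ∈ fxp x' := mem_fxp.2 hx'u'
  have hcx' : ∀ s ∈ T, Commute s x' → s u = u := fun s hs hsc =>
    fix_of_notMem hG hodd hpar hx' hx2' hxq' (by rw [pts_reord]; exact hs) hsc hu''
  have hnx : ∀ s ∈ T, x * s * x⁻¹ ∈ T := fun s hs => conj_pfix_swap22 hx hxq hs
  have hny : ∀ s ∈ T, y * s * y⁻¹ ∈ T := fun s hs => conj_mem_pfix' hyG (double_maps hyq) hs
  have hyx : y * x = x' := by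
    rw [hy, mul_assoc, hc.eq, ← mul_assoc, hx2, one_mul]
  have hdec : ∀ t ∈ T, ∃ d ∈ T, Commute d y ∧ t u = d u := by
    intro t ht
    obtain ⟨d, hd, c, hc', j, hj, hdy, hcx, hjx, rfl⟩ := decomp (hodd q) hy2 hx2 hxy.symm hny hnx ht
    rw [hyx] at hjx
    refine ⟨d, hd, hdy, ?_⟩
    simp only [Perm.mul_apply]
    rw [hcx' j hj hjx, fix_of_notMem hG hodd hpar hx hx2 hxq hc' hcx hu, hcx' j hj hjx]
  intro t ht
  by_contra hne
  obtain ⟨d, hd, hdy, e⟩ := hdec t ht
  rw [e] at hne
  have hsq : d (d u) ≠ u := fun h => hne (fix_of_sq (hodd q) hd h)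
  have hmap : ∀ p ∈ fxp y, d p ∈ fxp y := fun p hp => commute_maps_fxp hdy hp
  have hO : ({u, d u, d (d u)} : Finset α) = fxp y := by
    refine Finset.eq_of_subset_of_card_le (fun p hp => ?_) ?_
    · simp only [Finset.mem_insert, Finset.mem_singleton] at hp
      rcases hp with rfl | rfl | rfl
      exacts [mem_fxp.2 hyu, hmap _ (mem_fxp.2 hyu), hmap _ (hmap _ (mem_fxp.2 hyu))]
    · rw [hfy, Finset.card_eq_three.2 ⟨u, v, x v, Ne.symm hvu, Ne.symm hxvu, hxvv.symm, rfl⟩,
        Finset.card_eq_three.2 ⟨u, d u, d (d u), Ne.symm hne, Ne.symm hsq,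
          fun h => hne (d.injective h).symm, rfl⟩]
  have hTO : ∀ s ∈ T, ∀ p ∈ fxp y, s p ∈ fxp y := by
    intro s hs p hp
    rw [← hO] at hp
    simp only [Finset.mem_insert, Finset.mem_singleton] at hp
    have key : ∀ r ∈ T, r u ∈ fxp y := fun r hr => by
      obtain ⟨d', -, hd'y, e'⟩ := hdec r hr
      rw [e']
      exact commute_maps_fxp hd'y (mem_fxp.2 hyu)
    rcases hp with rfl | rfl | rfl
    · exact key s hs
    · rw [← Perm.mul_apply]; exact key _ (mul_mem hs hd)
    · rw [← Perm.mul_apply, ← Perm.mul_apply]; exact key _ (mul_mem (mul_mem hs hd) hd)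
  -- the centraliser fixes the three points
  set C := Cen T x with hC
  have hCfix : ∀ s ∈ C, s u = u ∧ s v = v ∧ s (x v) = x v := by
    intro s hs
    obtain ⟨hsT, hsc⟩ := hs
    have h1 : s u = u := fix_of_notMem hG hodd hpar hx hx2 hxq hsT hsc hu
    have h2 : ∀ p ∈ fxp y, p ≠ u → s p = v ∨ s p = x v := by
      intro p hp hpu
      have h := hTO s hsT p hp
      rw [hfy] at h
      simp only [Finset.mem_insert, Finset.mem_singleton] at h
      exact h.resolve_left fun h' => hpu (s.injective (h'.trans h1.symm))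
    have h3 := h2 v (by rw [hfy]; simp) hvu
    have h4 := h2 (x v) (by rw [hfy]; simp) hxvu
    have h5 : s v = v := fix_of_pair (hodd q) hsT h3 h4
    exact ⟨h1, h5, by rw [apply_comm hsc, h5]⟩
  set q' := pairQuad q 0 1 (by decide) v (x v) hv hxv hxvv.symm with hq'
  have hxq'' : Double x q' := ⟨hxq.1, hxq.2.1, rfl, invol_apply hx2 v⟩
  have hxI : x ∈ involSet G 3 := mem_involSet.2 ⟨hx, hx2, ne_one_of_swap22 hxq, by
    rw [fxp_swap hG hodd hx hx2 hxq, hpar]⟩
  have hle : C ≤ Cen (pfix G (pts q')) x := fun s hs => by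
    refine ⟨⟨hs.1.1, forall_pts fun i => ?_⟩, hs.2⟩
    fin_cases i
    exacts [hs.1.2 _ (mem_pts q 0), hs.1.2 _ (mem_pts q 1), (hCfix s hs).2.1, (hCfix s hs).2.2]
  have hcard := Subgroup.card_le_of_le hle
  have h1 := cent_eq hG hodd (f := 3) (by omega) q q' hx hx2 hxq hxI hxq''
  rw [← hC, show 3 * 3 - 3 = 6 from rfl, show Fintype.card α - 3 - 2 = Fintype.card α - 5 by omega] at h1
  have hpos : 0 < Nat.card C := Nat.card_pos
  have hn' : Fintype.card α ≤ 11 := by
    by_contra hc11
    have h2 : 7 * Nat.card (Cen (pfix G (pts q')) x) ≤ 6 * Nat.card C := by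
      rw [h1]; exact Nat.mul_le_mul_right _ (by omega)
    omega
  rcases (show Fintype.card α = 9 ∨ Fintype.card α = 11 by omega) with h | h
  · obtain ⟨a, ha⟩ := odd_cen (T := T) (x := x) (hodd q)
    have ha' : Nat.card C = 2 * a + 1 := ha
    rw [h] at h1
    omega
  · have hC1 : Nat.card C = 1 := by
      rw [Subgroup.card_eq_one, Subgroup.eq_bot_iff_forall]
      intro s hs
      refine cen_eq_one_of_eleven hG hodd h (S := pts q ∪ fxp y) (x := x) ?_ hx2 ?_ ?_ (hodd q) hs.1 ?_ hs.2
      · rw [Finset.card_union_of_disjoint, card_pts, hfy, Finset.card_eq_three.2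
          ⟨u, v, x v, Ne.symm hvu, Ne.symm hxvu, hxvv.symm, rfl⟩]
        rw [hfy, Finset.disjoint_right]
        intro p hp
        simp only [Finset.mem_insert, Finset.mem_singleton] at hp
        rcases hp with rfl | rfl | rfl <;> assumption
      · intro p hp
        rcases Finset.mem_union.1 hp with hp | hp
        · exact Finset.mem_union_left _ (swap22_maps hxq p hp)
        · exact Finset.mem_union_right _ (commute_maps_fxp hxy hp)
      · intro p hp
        rw [hfx] at hp
        simp only [Finset.mem_insert, Finset.mem_singleton] at hp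
        rcases hp with rfl | rfl | rfl
        exacts [Finset.mem_union_left _ (mem_pts q _), Finset.mem_union_left _ (mem_pts q _),
          Finset.mem_union_right _ (mem_fxp.2 hyu)]
      · intro p hp
        rcases Finset.mem_union.1 hp with hp | hp
        · exact hs.1.2 p hp
        · rw [hfy] at hp
          simp only [Finset.mem_insert, Finset.mem_singleton] at hp
          obtain ⟨a, b, c⟩ := hCfix s hs
          rcases hp with rfl | rfl | rfl <;> assumption
    have h2 := cent_eq hG hodd (f := 3) (by omega) q q hx hx2 hxq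
      (y := y) (mem_involSet.2 ⟨hyG, hy2, ne_one_of_double hyq, by
        rw [(mem_involSet.1 (fxp_double hG hodd (by omega) hyG hy2 hyq)).2.2.2, hpar]⟩) hyq
    rw [← hT, ← hC, hC1, h, show 3 * 3 - 3 = 6 from rfl] at h2
    have hD : Nat.card (Cen T y) = 1 := by omega
    rw [Subgroup.card_eq_one, Subgroup.eq_bot_iff_forall] at hD
    exact hne (by rw [hD d ⟨hd, hdy⟩]; rfl)

end CfsgLib.Char.OddFour
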