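import Cfsg.Agent.Lib.Char.Homogeneous.Main
import Cfsg.Agent.Lib.Char.OddFour.Odd

/-!
Odd degree at least nine: the fixed points of the four-point stabiliser.
-/

set_option autoImplicit false
set_option linter.unusedSectionVars false

namespace CfsgLib.Char.OddFour

open Equiv CfsgLib.Char.Homogeneous

variable {α : Type*} [Fintype α] [DecidableEq α]

/-- The points fixed by a pointwise stabiliser. -/
noncomputable def Fx (G : Subgroup (Perm α)) (s : Finset α) : Finset α := by
  classical
  exact Finset.univ.filter fun z => ∀ t ∈ pfix G s, t z = z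

variable {G : Subgroup (Perm α)}

theorem mem_fx {s : Finset α} {z : α} : z ∈ Fx G s ↔ ∀ t ∈ pfix G s, t z = z := by
  classical
  simp [Fx]

theorem subset_fx (s : Finset α) : s ⊆ Fx G s := fun _ hz => mem_fx.2 fun _ ht => ht.2 _ hz

theorem image_fx {g : Perm α} (hg : g ∈ G) (s : Finset α) : (Fx G s).image g = Fx G (s.image g) := by
  have h : ∀ {g : Perm α}, g ∈ G → ∀ (s : Finset α) (z : α), z ∈ Fx G s → g z ∈ Fx G (s.image g) := by
    intro g hg s z hz
    refine mem_fx.2 fun t ht => ?_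
    have h1 := conj_mem_pfix (inv_mem hg) ht
    rw [Finset.image_image, show (⇑g⁻¹ ∘ ⇑g) = id from funext fun w => iaa g w, Finset.image_id] at h1
    have h2 := mem_fx.1 hz _ h1
    simp only [inv_inv, Perm.mul_apply] at h2
    rwa [Perm.inv_eq_iff_eq] at h2
  refine Finset.Subset.antisymm (Finset.image_subset_iff.2 fun z hz => h hg s z hz) fun w hw => ?_
  have := h (inv_mem hg) _ w hw
  rw [Finset.image_image, show (⇑g⁻¹ ∘ ⇑g) = id from funext fun w => iaa g w, Finset.image_id] at this
  exact Finset.mem_image.2 ⟨_, this, aia g w⟩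

variable (hG : Ktr G 4) (hodd : ∀ q : Fin 4 ↪ α, Odd (Nat.card (pfix G (pts q))))
include hG hodd

theorem pfix_eq_of_subset_fx {s D : Finset α} (hs : s.card = 4) (hD : D.card = 4) (hsub : D ⊆ Fx G s) :
    pfix G D = pfix G s := by
  have hle : pfix G s ≤ pfix G D := fun t ht => ⟨ht.1, fun z hz => mem_fx.1 (hsub hz) t ht⟩
  refine (Subgroup.eq_of_le_of_card_ge hle ?_).symm
  rw [(hG.hom).card_pfix hs hD]

theorem fx_eq_of_subset {s D : Finset α} (hs : s.card = 4) (hD : D.card = 4) (hsub : D ⊆ Fx G s) :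
    Fx G D = Fx G s := by
  ext z
  rw [mem_fx, mem_fx, pfix_eq_of_subset_fx hG hodd hs hD hsub]

theorem card_fx_eq {s D : Finset α} (hs : s.card = 4) (hD : D.card = 4) : (Fx G D).card = (Fx G s).card := by
  obtain ⟨g, hg, rfl⟩ := hG.hom s D hs hD
  rw [← image_fx hg, Finset.card_image_of_injective _ g.injective]

theorem fxp_subset_fx (hn : 9 ≤ Fintype.card α) (hpar : Fintype.card α % 2 = 1) {x : Perm α}
    {q : Fin 4 ↪ α} (hx : x ∈ G) (hx2 : x * x = 1) (hxq : Swap22 x q) : fxp x ⊆ Fx G (pts q) :=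
  fun _ hu => mem_fx.2 (fix_third hG hodd hn hpar hx hx2 hxq hu)

theorem maps_fx {g : Perm α} {q : Fin 4 ↪ α} (hg : g ∈ G) (h : ∀ p ∈ pts q, g p ∈ pts q) :
    ∀ z ∈ Fx G (pts q), g z ∈ Fx G (pts q) := by
  intro z hz
  have he : (pts q).image g = pts q := Finset.eq_of_subset_of_card_le (Finset.image_subset_iff.2 h)
    (by rw [Finset.card_image_of_injective _ g.injective])
  have := image_fx hg (pts q)
  rw [he] at this
  exact this ▸ Finset.mem_image_of_mem g hz

/-- Five fixed points are impossible. -/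
theorem five_lt_card_fx (hn : 9 ≤ Fintype.card α) (hpar : Fintype.card α % 2 = 1) (q : Fin 4 ↪ α) :
    5 < (Fx G (pts q)).card := by
  obtain ⟨x, hx, hx2, hxq⟩ := exists_invol_swap22 hG q (hodd q)
  obtain ⟨u, hu, hfx⟩ := exists_third hG hodd hpar hx hx2 hxq
  set T := pfix G (pts q) with hT
  have h5 : 5 ≤ (Fx G (pts q)).card := by
    have := Finset.card_le_card (show insert u (pts q) ⊆ Fx G (pts q) from Finset.insert_subset
      (fxp_subset_fx hG hodd hn hpar hx hx2 hxq (by rw [hfx]; simp)) (subset_fx _))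
    rw [Finset.card_insert_of_notMem hu, card_pts] at this
    exact this
  by_contra hc
  have hk : ∀ s : Finset α, s.card = 4 → (Fx G s).card = 5 := fun s hs => by
    rw [card_fx_eq hG hodd (card_pts q) hs]; omega
  -- the involution is determined by its fixed points
  have huniq : ∀ (q₁ : Fin 4 ↪ α) (g : Perm α), g ∈ G → g * g = 1 → Swap22 g q₁ →
      ∀ t ∈ pfix G (pts q₁), Commute t g := by
    intro q₁ g hg hg2 hgq t ht
    obtain ⟨e, he, hfg⟩ := exists_third hG hodd hpar hg hg2 hgq
    have het : t e = e := fix_third hG hodd hn hpar hg hg2 hgq (by rw [hfg]; simp) t ht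
    set g' := t * g * t⁻¹ with hg'
    have hg'G : g' ∈ G := mul_mem (mul_mem ht.1 hg) (inv_mem ht.1)
    have hg'2 : g' * g' = 1 := by
      rw [hg', show t * g * t⁻¹ * (t * g * t⁻¹) = t * (g * g) * t⁻¹ by group, hg2, mul_one, mul_inv_cancel]
    have hti : ∀ p, (p ∈ pts q₁ ∨ p = e) → t⁻¹ p = p := by
      intro p hp
      rw [Perm.inv_eq_iff_eq]
      rcases hp with hp | rfl
      exacts [(ht.2 p hp).symm, het.symm]
    have hsame : ∀ p ∈ fxp g, g' p = p := by
      intro p hp
      have hp' : p ∈ pts q₁ ∨ p = e := by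
        rw [hfg] at hp
        simp only [Finset.mem_insert, Finset.mem_singleton] at hp
        rcases hp with rfl | rfl | rfl
        exacts [Or.inl (mem_pts q₁ _), Or.inl (mem_pts q₁ _), Or.inr rfl]
      rw [hg', Perm.mul_apply, Perm.mul_apply, hti p hp', mem_fxp.1 hp]
      rcases hp' with hp' | rfl
      exacts [ht.2 p hp', het]
    have hfg' : fxp g' = fxp g := (Finset.eq_of_subset_of_card_le (fun p hp => mem_fxp.2 (hsame p hp))
      (by rw [hg', card_fxp_conj])).symm
    suffices hgg : g' = g by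
      show t * g = g * t
      exact mul_inv_eq_iff_eq_mul.1 (hg'.symm.trans hgg)
    refine Perm.ext fun z => ?_
    by_cases hz : z ∈ fxp g
    · rw [hsame z hz, mem_fxp.1 hz]
    have key : ∀ r ∈ G, r * r = 1 → fxp r = fxp g →
        Fx G ({z, q₁ 2, q₁ 3, e} : Finset α) = {z, r z, q₁ 2, q₁ 3, e} := by
      intro r hr hr2 hfr
      have k0 : r z ≠ z := fun h => hz (hfr ▸ mem_fxp.2 h)
      have k1 : r z ∉ fxp g := fun h => k0 (by
        rw [← hfr, mem_fxp] at h
        exact r.injective h)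
      rw [hfg] at hz k1 hfr
      simp only [Finset.mem_insert, Finset.mem_singleton, not_or] at hz k1
      have h23 : q₁ 2 ≠ q₁ 3 := emb_ne q₁ (by decide)
      have he2 : e ≠ q₁ 2 := fun h => he (h ▸ mem_pts q₁ 2)
      have he3 : e ≠ q₁ 3 := fun h => he (h ▸ mem_pts q₁ 3)
      set q₂ := quad z (r z) (q₁ 2) (q₁ 3) ⟨k0.symm, hz.1, hz.2.1, k1.1, k1.2.1, h23⟩ with hq₂
      have hrq : Swap22 r q₂ := ⟨rfl, invol_apply hr2 z, mem_fxp.1 (show q₁ 2 ∈ fxp r by rw [hfr]; simp),
        mem_fxp.1 (show q₁ 3 ∈ fxp r by rw [hfr]; simp)⟩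
      have hFx : Fx G (pts q₂) = {z, r z, q₁ 2, q₁ 3, e} := by
        refine (Finset.eq_of_subset_of_card_le ?_ ?_).symm
        · intro p hp
          simp only [Finset.mem_insert, Finset.mem_singleton] at hp
          rcases hp with rfl | rfl | rfl | rfl | rfl
          · exact subset_fx _ (mem_pts q₂ 0)
          · exact subset_fx _ (mem_pts q₂ 1)
          · exact subset_fx _ (mem_pts q₂ 2)
          · exact subset_fx _ (mem_pts q₂ 3)
          · exact fxp_subset_fx hG hodd hn hpar hr hr2 hrq (by rw [hfr]; simp)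
        · rw [hk _ (card_pts q₂)]
          simp [Finset.card_insert_of_notMem, k0.symm, hz, k1, h23, he2.symm, he3.symm]
      rw [← hFx]
      refine fx_eq_of_subset hG hodd (card_pts q₂) ?_ ?_
      · simp [Finset.card_insert_of_notMem, hz, h23, he2.symm, he3.symm]
      · rw [hFx]
        intro p hp
        simp only [Finset.mem_insert, Finset.mem_singleton] at hp ⊢
        tauto
    have h1 := key g hg hg2 rfl
    rw [key g' hg'G hg'2 hfg'] at h1
    have h2 : g' z ∈ ({z, g z, q₁ 2, q₁ 3, e} : Finset α) := h1.le (by simp)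
    have k0 : g' z ≠ z := fun h => hz (hfg' ▸ mem_fxp.2 h)
    have k1 : g' z ∉ fxp g := fun h => k0 (by
      rw [← hfg', mem_fxp] at h
      exact g'.injective h)
    rw [hfg] at k1
    simp only [Finset.mem_insert, Finset.mem_singleton, not_or] at h2 k1
    exact (h2.resolve_left k0).resolve_right fun h => by tauto
  obtain ⟨x', hx', hx2', hcx, hxq', hyq, hy2, hx'u⟩ := exists_companion hG hodd hpar hx hx2 hxq
  have hyu : (x * x') u = u := by
    rw [Perm.mul_apply, hx'u u (by rw [hfx]; simp) hu]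
    exact mem_fxp.1 (by rw [hfx]; simp)
  obtain ⟨v, hv, hxv, hvu, hxvu, hxvv, hfy⟩ := double_frame hG hodd (by omega) hpar hx hx2 hxq
    (mul_mem hx hx') hy2 hyq ((Commute.refl x).mul_right hcx.symm) hu hfx hyu
  have hsub : ({u, v, x v} : Finset α) ∪ pts q ⊆ Fx G (pts q) := by
    refine Finset.union_subset (fun p hp => mem_fx.2 fun t ht => ?_) (subset_fx _)
    have htu : t u = u := fix_third hG hodd hn hpar hx hx2 hxq (by rw [hfx]; simp) t ht
    have hty : Commute t (x * x') := (huniq q x hx hx2 hxq t ht).mul_right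
      (huniq _ x' hx' hx2' hxq' t (by rw [pts_reord]; exact ht))
    have h2 : ∀ a ∈ ({u, v, x v} : Finset α), a ≠ u → t a = v ∨ t a = x v := by
      intro a ha hau
      have h := commute_maps_fxp hty (hfy.ge ha)
      rw [hfy] at h
      simp only [Finset.mem_insert, Finset.mem_singleton] at h
      exact h.resolve_left fun h' => hau (t.injective (h'.trans htu.symm))
    have h3 := h2 v (by simp) hvu
    have h4 := h2 (x v) (by simp) hxvu
    simp only [Finset.mem_insert, Finset.mem_singleton] at hp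
    rcases hp with rfl | rfl | rfl
    · exact htu
    · exact fix_of_pair (hodd q) ht h3 h4
    · exact fix_of_pair (hodd q) ht h4.symm h3.symm
  have h7 := Finset.card_le_card hsub
  rw [Finset.card_union_of_disjoint, card_pts,
    Finset.card_eq_three.2 ⟨u, v, x v, Ne.symm hvu, Ne.symm hxvu, hxvv.symm, rfl⟩] at h7
  · omega
  · rw [Finset.disjoint_left]
    intro p hp
    simp only [Finset.mem_insert, Finset.mem_singleton] at hp
    rcases hp with rfl | rfl | rfl <;> assumption

/-- Eleven fixed points, and the double involutions have their fixed points among them. -/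
theorem fx_eleven (hn : 9 ≤ Fintype.card α) (hpar : Fintype.card α % 2 = 1) (q : Fin 4 ↪ α) :
    (Fx G (pts q)).card = 11 ∧
      ∀ y ∈ G, y * y = 1 → Double y q → fxp y ⊆ Fx G (pts q) := by
  classical
  set F := Fx G (pts q) with hF
  have h5 := five_lt_card_fx hG hodd hn hpar q
  rw [← hF] at h5
  set H := restr G F with hH
  have hHk : Ktr H 4 := by
    refine restr_ktr fun D f hDF hD hf hfF => ?_
    obtain ⟨g, hg, hgf⟩ := hG D f hD hf
    refine ⟨g, hg, fun z hz => ?_, hgf⟩
    have h1 := fx_eq_of_subset hG hodd (card_pts q) hD hDF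
    have h2 := fx_eq_of_subset hG hodd (card_pts q) (D := D.image f)
      (by rw [Finset.card_image_of_injOn hf, hD]) (Finset.image_subset_iff.2 hfF)
    have h3 := image_fx hg D
    rw [Finset.image_congr fun p hp => hgf p hp, h1, h2] at h3
    rw [← hF] at h3
    exact h3.le (Finset.mem_image_of_mem g hz)
  let qF : Fin 4 ↪ F := ⟨fun i => ⟨q i, subset_fx _ (mem_pts q i)⟩,
    fun i j e => q.injective (congrArg Subtype.val e)⟩
  have htriv : ∀ D : Finset F, D.card = 4 → ∀ σ ∈ pfix H D, σ = 1 := by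
    intro D hD σ hσ
    obtain ⟨g, hg, hgσ⟩ := hσ.1
    have hgD : g ∈ pfix G (D.map (Function.Embedding.subtype _)) := by
      refine ⟨hg, fun p hp => ?_⟩
      obtain ⟨a, ha, rfl⟩ := Finset.mem_map.1 hp
      show g (a : α) = a
      rw [hgσ, hσ.2 a ha]
    rw [pfix_eq_of_subset_fx hG hodd (card_pts q) (by rw [Finset.card_map, hD]) (fun p hp => by
      obtain ⟨a, -, rfl⟩ := Finset.mem_map.1 hp
      exact a.2)] at hgD
    refine Perm.ext fun a => Subtype.ext ?_
    rw [← hgσ a]
    exact mem_fx.1 a.2 g hgD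
  have hfree : ∀ σ ∈ H, σ ≠ 1 → (fxp σ).card ≤ 4 := by
    intro σ hσ h1
    by_contra hc
    obtain ⟨D, hD, hD4⟩ := Finset.exists_subset_card_eq (s := fxp σ) (n := 4) (by omega)
    exact h1 (htriv D hD4 σ ⟨hσ, fun a ha => mem_fxp.1 (hD ha)⟩)
  have hbot : pfix H (pts qF) = ⊥ := (Subgroup.eq_bot_iff_forall _).2 fun σ hσ => htriv _ (card_pts qF) σ hσ
  have hodd' : F.card % 2 = 1 := by
    obtain ⟨x, hx, hx2, hxq⟩ := exists_invol_swap22 hG q (hodd q)
    obtain ⟨σ, -, hσ⟩ := restr_of_maps (U := F) hx (maps_fx hG hodd hx (swap22_maps hxq))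
    have h2 : σ * σ = 1 := Perm.ext fun a => Subtype.ext (by
      rw [Perm.mul_apply, hσ, hσ, invol_apply hx2]
      rfl)
    have h3 := card_fxp_mod_two h2
    have h4 : (fxp σ).map (Function.Embedding.subtype _) = fxp x := by
      ext p
      rw [Finset.mem_map, mem_fxp]
      constructor
      · rintro ⟨a, ha, rfl⟩
        show x (a : α) = a
        rw [← hσ a, mem_fxp.1 ha]
      · intro hp
        exact ⟨⟨p, fxp_subset_fx hG hodd hn hpar hx hx2 hxq (mem_fxp.2 hp)⟩,
          mem_fxp.2 (Subtype.ext ((hσ _).trans hp)), rfl⟩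
    rw [← Finset.card_map (Function.Embedding.subtype _), h4, fxp_swap hG hodd hx hx2 hxq, hpar,
      Fintype.card_coe] at h3
    exact h3.symm.trans rfl
  have h11 : F.card = 11 := by
    rcases free_four hHk hfree qF with h | h | ⟨h, -⟩
    · have h1 : (pts qF)ᶜ.card ≤ 1 := Finset.card_le_one.2 fun a ha b hb => by
        obtain ⟨σ, hσ, e⟩ := h a b (Finset.mem_compl.1 ha) (Finset.mem_compl.1 hb)
        rw [hbot, Subgroup.mem_bot] at hσ
        rw [← e, hσ]
        rfl
      rw [Finset.card_compl, card_pts, Fintype.card_coe] at h1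
      omega
    · rw [Fintype.card_coe] at h
      omega
    · rw [← Fintype.card_coe F]
      exact h
  refine ⟨h11, fun y hy hy2 hyq => ?_⟩
  have hc1 : Nat.card (pfix H (pts qF)) = 1 := by rw [hbot, Subgroup.card_bot]
  obtain ⟨e, -⟩ := odd_case hHk hfree (by rw [Fintype.card_coe]; omega) qF (hc1 ▸ odd_one)
    (by rw [Fintype.card_coe]; omega)
  rw [hc1, Fintype.card_coe, h11] at e
  obtain ⟨ρ, hρ⟩ := Finset.card_pos.1 (show 0 < ((involSet H 3).filter fun z => Double z qF).card by omega)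
  obtain ⟨hρI, hρq⟩ := Finset.mem_filter.1 hρ
  obtain ⟨hρH, hρ2, -, hρf⟩ := mem_involSet.1 hρI
  obtain ⟨σ, hσH, hσ⟩ := restr_of_maps (U := F) hy (maps_fx hG hodd hy (double_maps hyq))
  have hσq : Double σ qF := by
    obtain ⟨h1, h2, h3, h4⟩ := hyq
    exact ⟨Subtype.ext ((hσ _).trans h1), Subtype.ext ((hσ _).trans h2), Subtype.ext ((hσ _).trans h3),
      Subtype.ext ((hσ _).trans h4)⟩
  have heq : σ = ρ := by
    have h := double_coset hσH hρH hσq hρq
    rw [hbot, Subgroup.mem_bot] at h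
    exact (inv_mul_eq_one.1 h).symm
  have hsub : (fxp σ).map (Function.Embedding.subtype _) ⊆ fxp y := by
    intro p hp
    obtain ⟨a, ha, rfl⟩ := Finset.mem_map.1 hp
    rw [mem_fxp]
    show y (a : α) = a
    rw [← hσ a, mem_fxp.1 ha]
  have hyf := (mem_involSet.1 (fxp_double hG hodd (by omega) hy hy2 hyq)).2.2.2
  rw [hpar] at hyf
  intro p hp
  rw [← Finset.eq_of_subset_of_card_le hsub (by rw [Finset.card_map, heq, hρf, hyf])] at hp
  obtain ⟨a, -, rfl⟩ := Finset.mem_map.1 hp
  exact a.2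

theorem fx_eq_univ (hn : 9 ≤ Fintype.card α) (hpar : Fintype.card α % 2 = 1) (q : Fin 4 ↪ α) :
    Fx G (pts q) = Finset.univ := by
  obtain ⟨x, hx, hx2, hxq⟩ := exists_invol_swap22 hG q (hodd q)
  have hfx := fxp_subset_fx hG hodd hn hpar hx hx2 hxq
  refine Finset.eq_univ_iff_forall.2 fun z => ?_
  by_contra hz
  have hq : z ∉ pts q := fun h => hz (subset_fx _ h)
  have hne : x z ≠ z := fun h => hz (hfx (mem_fxp.2 h))
  set q' := pairQuad q 0 1 (by decide) z (x z) hq (notMem_pts hx2 (swap22_maps hxq) hq) hne.symm with hq'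
  obtain ⟨-, h⟩ := fx_eleven hG hodd hn hpar q'
  have h1 := h x hx hx2 ⟨hxq.1, hxq.2.1, rfl, invol_apply hx2 z⟩
  have hsub : pts q ⊆ Fx G (pts q') := forall_pts fun i => by
    fin_cases i
    · exact subset_fx _ (mem_pts q' 0)
    · exact subset_fx _ (mem_pts q' 1)
    · exact h1 (mem_fxp.2 hxq.2.2.1)
    · exact h1 (mem_fxp.2 hxq.2.2.2)
  refine hz ?_
  rw [fx_eq_of_subset hG hodd (card_pts q') (card_pts q) hsub]
  exact subset_fx _ (mem_pts q' 2)

end CfsgLib.Char.OddFour
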