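import Cfsg.Agent.Lib.Char.OddFour.Small
import Cfsg.Agent.Lib.Char.OddFour.Even
import Cfsg.Agent.Lib.Char.OddFour.OddFixed

/-!
M. Hall's theorem on quadruply transitive groups with a four-point stabiliser of odd order.
-/

set_option autoImplicit false
set_option linter.unusedSectionVars false

namespace CfsgLib.Char.OddFour

open Equiv CfsgLib.Char.Homogeneous

variable {α : Type*} [Fintype α] [DecidableEq α] {G : Subgroup (Perm α)}

/-- Fixing an embedded quadruple is fixing its four points. -/
theorem card_stabilizer_emb (x : Fin 4 ↪ α) :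
    Nat.card (MulAction.stabilizer G x) = Nat.card (pfix G (pts x)) := by
  refine Nat.card_congr
    { toFun := fun g => ⟨(g : G), (g : G).2, forall_pts fun i => DFunLike.congr_fun g.2 i⟩
      invFun := fun g => ⟨⟨g, g.2.1⟩, Function.Embedding.ext fun i => g.2.2 _ (mem_pts x i)⟩
      left_inv := fun g => rfl
      right_inv := fun g => rfl }

theorem odd_four_point (hG : Ktr G 4) (x : Fin 4 ↪ α) (hodd : ∀ q : Fin 4 ↪ α, Odd (Nat.card (pfix G (pts q)))) :
    ((Fintype.card α = 4 ∨ Fintype.card α = 5) ∧ G = ⊤) ∨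
      ((Fintype.card α = 6 ∨ Fintype.card α = 7) ∧ G = alternatingGroup α) ∨
        (Fintype.card α = 11 ∧ Nat.card G = 7920) := by
  have h4 : 4 ≤ Fintype.card α := by simpa using Fintype.card_le_of_embedding x
  rcases Nat.lt_or_ge (Fintype.card α) 6 with h | h
  · exact Or.inl ⟨by omega, eq_top_of_le_five hG hodd h4 (by omega)⟩
  rcases Nat.lt_or_ge (Fintype.card α) 8 with h' | h'
  · exact Or.inr (Or.inl ⟨by omega, eq_alternating hG hodd (by omega)⟩)
  rcases Nat.mod_two_eq_zero_or_one (Fintype.card α) with hpar | hpar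
  · exact (even_false hG hodd h' hpar).elim
  refine Or.inr (Or.inr ?_)
  have h9 : 9 ≤ Fintype.card α := by omega
  have h11 := (fx_eleven hG hodd h9 hpar x).1
  have huniv := fx_eq_univ hG hodd h9 hpar x
  rw [huniv, Finset.card_univ] at h11
  refine ⟨h11, ?_⟩
  have hT : pfix G (pts x) = ⊥ := (Subgroup.eq_bot_iff_forall _).2 fun t ht =>
    Perm.ext fun z => mem_fx.1 (huniv.ge (Finset.mem_univ z)) t ht
  rw [← hG.card_group x, show Finset.univ.map x = pts x from rfl, hT, Subgroup.card_bot, h11]
  rfl

end CfsgLib.Char.OddFour
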