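import Cfsg.Agent.Lib.Char.Homogeneous.Main
import Cfsg.Agent.Lib.Char.OddFour.Basic

/-!
At most seven points.
-/

set_option autoImplicit false
set_option linter.unusedSectionVars false

namespace CfsgLib.Char.OddFour

open Equiv CfsgLib.Char.Homogeneous

variable {α : Type*} [Fintype α] [DecidableEq α] {G : Subgroup (Perm α)}
variable (hG : Ktr G 4) (hodd : ∀ q : Fin 4 ↪ α, Odd (Nat.card (pfix G (pts q))))
include hG hodd

theorem eq_top_of_le_five (h4 : 4 ≤ Fintype.card α) (hn : Fintype.card α ≤ 5) : G = ⊤ := by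
  refine top_unique fun σ _ => ?_
  obtain ⟨D, -, hD⟩ := Finset.exists_subset_card_eq (s := (Finset.univ : Finset α)) (n := 4)
    (by rwa [Finset.card_univ])
  obtain ⟨g, hg, hgσ⟩ := hG D σ hD σ.injective.injOn
  suffices g = σ from this ▸ hg
  refine Perm.ext fun x => ?_
  by_cases hx : x ∈ D
  · exact hgσ x hx
  have h1 : Dᶜ.card ≤ 1 := by rw [Finset.card_compl]; omega
  have hmem : ∀ y, y ∉ D.image σ → σ⁻¹ y = x := fun y hy =>
    Finset.card_le_one.1 h1 _ (Finset.mem_compl.2 fun hc =>
      hy (Finset.mem_image.2 ⟨_, hc, aia σ y⟩)) _ (Finset.mem_compl.2 hx)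
  have hg' : g x ∉ D.image σ := by
    intro hc
    obtain ⟨d, hd, e⟩ := Finset.mem_image.1 hc
    rw [← hgσ d hd] at e
    exact hx (g.injective e ▸ hd)
  have := congrArg σ (hmem _ hg')
  rwa [aia] at this

theorem free_of_le_seven (hn : Fintype.card α ≤ 7) : ∀ g ∈ G, g ≠ 1 → (fxp g).card ≤ 4 := by
  intro g hg h1
  by_contra hc
  obtain ⟨D, hD, hD4⟩ := Finset.exists_subset_card_eq (s := fxp g) (n := 4) (by omega)
  let q : Fin 4 ↪ α := ((Finset.equivFinOfCardEq hD4).symm.toEmbedding).trans (Function.Embedding.subtype _)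
  have hgq : g ∈ pfix G (pts q) :=
    ⟨hg, forall_pts fun i => mem_fxp.1 (hD ((Finset.equivFinOfCardEq hD4).symm i).2)⟩
  have h2 : (fxp g)ᶜ.card ≤ 2 := by rw [Finset.card_compl]; omega
  refine h1 (Perm.ext fun z => ?_)
  show g z = z
  refine fix_of_sq (hodd q) hgq ?_
  by_contra hz
  have k1 : g z ≠ z := fun e => hz (by rw [e, e])
  have k2 : g (g z) ≠ g z := fun e => k1 (g.injective e)
  have k3 : g (g (g z)) ≠ g (g z) := fun e => k2 (g.injective e)
  have hsub : ({z, g z, g (g z)} : Finset α) ⊆ (fxp g)ᶜ := by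
    intro y hy
    simp only [Finset.mem_insert, Finset.mem_singleton] at hy
    rw [Finset.mem_compl, mem_fxp]
    rcases hy with rfl | rfl | rfl <;> assumption
  have h3 := Finset.card_le_card hsub
  rw [Finset.card_eq_three.2 ⟨z, g z, g (g z), Ne.symm k1, Ne.symm hz, Ne.symm k2, rfl⟩] at h3
  omega

theorem eq_alternating (hn : Fintype.card α = 6 ∨ Fintype.card α = 7) : G = alternatingGroup α := by
  have hfree := free_of_le_seven hG hodd (by omega)
  obtain ⟨D, -, hD⟩ := Finset.exists_subset_card_eq (s := (Finset.univ : Finset α)) (n := 4)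
    (by rw [Finset.card_univ]; omega)
  let q : Fin 4 ↪ α := ((Finset.equivFinOfCardEq hD).symm.toEmbedding).trans (Function.Embedding.subtype _)
  have hG' := hG.card_group q
  haveI : Nontrivial α := Fintype.one_lt_card_iff_nontrivial.1 (by omega)
  have hmul := G.card_mul_index
  have hdvd := (dvd_outside hG hfree q).1
  have hT := hodd q
  have hpos : 0 < Nat.card (pfix G (pts q)) := Nat.card_pos
  refine Equiv.Perm.eq_alternatingGroup_of_index_eq_two ?_
  rw [Nat.card_perm, Nat.card_eq_fintype_card (α := α)] at hmul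
  rcases hn with h | h
  · rw [h] at hmul hdvd hG'
    have h1 : Nat.card (pfix G (pts q)) = 1 := by
      have := Nat.le_of_dvd (by norm_num) hdvd
      obtain ⟨l, hl⟩ := hT
      omega
    rw [pts] at h1
    rw [← hG', h1] at hmul
    norm_num [Nat.factorial, Nat.descFactorial] at hmul
    omega
  · have h1 : Nat.card (pfix G (pts q)) = 3 := by
      rcases free_four hG hfree q with ht | ht | ⟨ht, -⟩
      · refine le_antisymm (Nat.le_of_dvd (by omega) (by rw [h] at hdvd; exact hdvd)) ?_
        obtain ⟨x, hx⟩ : ∃ x, x ∉ pts q := by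
          by_contra hc
          push_neg at hc
          have := Finset.card_le_card (fun x _ => hc x : Finset.univ ⊆ pts q)
          rw [Finset.card_univ, card_pts] at this
          omega
        choose φ hφ hφx using fun y : ((pts q)ᶜ : Finset α) => ht x y hx (Finset.mem_compl.1 y.2)
        have := Nat.card_le_card_of_injective (fun y => (⟨φ y, hφ y⟩ : pfix G (pts q))) fun a b e =>
          Subtype.ext (by rw [← hφx a, ← hφx b, Subtype.mk.inj e])
        rw [Nat.card_eq_finsetCard, Finset.card_compl, card_pts, h] at this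
        exact this
      · omega
      · omega
    rw [pts] at h1
    rw [h] at hmul hG'
    rw [← hG', h1] at hmul
    norm_num [Nat.factorial, Nat.descFactorial] at hmul
    omega

end CfsgLib.Char.OddFour
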